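import Groth.Agent.Lib.Helper2.Cpt.Core
import Groth.Agent.Lib.Helper2.Aff.AffModel
import Groth.Agent.Lib.Helper2.Aff.CoreflQCoh
import Groth.Agent.Lib.Helper18.CptA

/-!
# Perfect objects are compact relative to `D_QCoh`: base case and assembly (helper2)
-/

set_option autoImplicit false
set_option linter.style.haveILetI false
set_option backward.isDefEq.respectTransparency false
universe u
open CategoryTheory CategoryTheory.Limits AlgebraicGeometry TopologicalSpace Opposite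
  CategoryTheory.Pretriangulated

attribute [local instance] HasDerivedCategory.standard

namespace Groth.Agent.Lib.Helper2.Cpt

open Groth.Agent.Lib.Helper2 Groth.Agent.Lib.Helper2.Stk Groth.Agent.Lib.Helper2.Aff
  AlgebraicGeometry.Scheme.Modules Groth.Agent.Lib.Helper13 Groth.Agent.Lib.Helper3
  Groth.Agent.Lib.Helper2.Aff.Qcqs Groth.Agent.Lib.Helper13.QCDim
  Groth.Agent.Lib.Helper2.Aff.HomVan Groth.Agent.Lib.Helper2.KillPow
  Groth.Agent.Lib.Helper2.TExactIso

attribute [local instance] Groth.Agent.Lib.Helper2.Stk.hasRpush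
attribute [local instance] Groth.Agent.Lib.Helper14.preservesFiniteLimits_tilde

section General

variable {C : Type*} [Category C] [Preadditive C]

noncomputable def isColimit_cofan_map {D : Type*} [Category D] (F : C ⥤ D) {ι : Type*} {K : ι → C} {E : C}
    (u : ∀ i, K i ⟶ E) (hc : IsColimit (Cofan.mk E u))
    [PreservesColimit (Discrete.functor K) F] :
    IsColimit (Cofan.mk (F.obj E) (fun i => F.map (u i))) :=
  (isColimitMapCoconeCofanMkEquiv F K u) (isColimitOfPreserves F hc)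

lemma FinSum.of_map {D : Type*} [Category D] [Preadditive D] (F : C ⥤ D) [F.Additive] [F.Full]
    [F.Faithful] {ι : Type*} {L : ι → C} {E : C} {v : ∀ i, L i ⟶ E} {P : C} {ψ : P ⟶ E}
    (h : FinSum (fun i => F.map (v i)) (F.map ψ)) : FinSum v ψ := by
  obtain ⟨J, g, e⟩ := h
  refine ⟨J, fun i => F.preimage (g i), ?_⟩
  apply F.map_injective
  rw [e, Functor.map_sum]
  apply Finset.sum_congr rfl
  intro i _
  rw [Functor.map_comp, Functor.map_preimage]

end General

variable {X : Scheme.{u}}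

theorem cptJ_of_qc (P : DCoh.D X)
    (hbase : ∀ W : X.Opens, IsAffineOpen W → ∀ {ι : Type u} (K : ι → DCoh.D X) (E : DCoh.D X)
      (u : ∀ i, K i ⟶ E), IsColimit (Cofan.mk E u) → (∀ i, DCoh.IsQCohD (K i)) → CptJ W.ι P u)
    {d : ℕ} {W : X.Opens} (h : QC d W) :
    ∀ {ι : Type u} (K : ι → DCoh.D X) (E : DCoh.D X) (u : ∀ i, K i ⟶ E),
      IsColimit (Cofan.mk E u) → (∀ i, DCoh.IsQCohD (K i)) → CptJ W.ι P u := by
  induction h with
  | affine W h => exact hbase W h
  | union d U V hU hV hUV ihU ihV ihUV =>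
    intro ι K E u hc hK
    refine cptJ_sup U V P u hc (ihU K E u hc hK) (ihV K E u hc hK) ?_
    exact ihUV (fun i => (K i)⟦(-1 : ℤ)⟧) (E⟦(-1 : ℤ)⟧) (fun i => (u i)⟦(-1 : ℤ)⟧')
      (isColimit_cofan_map (shiftFunctor (DCoh.D X) (-1 : ℤ)) u hc)
      (fun i => isQCohD_shift (K i) (hK i) (-1))
  | mono d d' W h hW ih => exact ih

open Groth.Agent.Lib.Helper18.DSch in
theorem cptJ_of_cptJ_comp {Y' Y : Scheme.{u}} (e : Y' ⟶ Y) [IsIso e] (j : Y ⟶ X)
    [IsOpenImmersion j] (P : DCoh.D X) {ι : Type u} {K : ι → DCoh.D X} {E : DCoh.D X}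
    (u : ∀ i, K i ⟶ E) (h : CptJ (e ≫ j) P u) : CptJ j P u := by
  intro φ
  let c := restrictDComp e j
  have h1 := h (c.hom.app P ≫ (DCoh.restrictD e).map φ ≫ c.inv.app E)
  haveI := faithful_restrictD_of_isIso e
  haveI := Corefl.full_restrictD_of_isIso e
  apply FinSum.of_map (DCoh.restrictD e)
  have h2 := (h1.comp_left (c.inv.app P)).transport
    (v' := fun i => (DCoh.restrictD e).map ((DCoh.restrictD j).map (u i)))
    (fun i => c.hom.app (K i)) (c.hom.app E) (fun i => c.hom.naturality (u i))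
  simpa using h2

lemma cptJ_congr {U : Scheme.{u}} {j j' : U ⟶ X} [IsOpenImmersion j] [IsOpenImmersion j']
    (h : j = j') (P : DCoh.D X) {ι : Type u} {K : ι → DCoh.D X} {E : DCoh.D X}
    (u : ∀ i, K i ⟶ E) : CptJ j P u ↔ CptJ j' P u := by
  subst h
  rfl

theorem cptJ_of_affine {W : X.Opens} (hW : IsAffineOpen W) (P : DCoh.D X) {ι : Type u}
    {K : ι → DCoh.D X} {E : DCoh.D X} (u : ∀ i, K i ⟶ E) (h : CptJ hW.fromSpec P u) :
    CptJ W.ι P u := by
  apply cptJ_of_cptJ_comp hW.isoSpec.inv W.ι P u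
  exact (cptJ_congr hW.isoSpec_inv_ι P u).2 h


section Chart

open Groth.Agent.Lib.Helper18.DR.Cpt

variable (R : CommRingCat.{u}) (j : SpecR R ⟶ X) [IsOpenImmersion j]

/-- the chart computation -/
theorem cptJ_of_tildeD (P : DCoh.D X) (N : Dual.D R) (hN : DRing.IsPerfect R N)
    (eN : (DCoh.restrictD j).obj P ≅ (DCoh.tildeD R).obj N) {ι : Type u} (K : ι → DCoh.D X)
    (E : DCoh.D X) (u : ∀ i, K i ⟶ E) (hc : IsColimit (Cofan.mk E u))
    (hK : ∀ i, DCoh.IsQCohD (K i)) : CptJ j P u := by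
  classical
  obtain ⟨hfull, hfaith, hess⟩ := tildeD_fullyFaithful_essImage R
  have hM : ∀ i, ∃ M : Dual.D R, Nonempty ((DCoh.tildeD R).obj M ≅ (DCoh.restrictD j).obj (K i)) :=
    fun i => (hess _).1 (isQCohD_restrict j (K i) (hK i))
  choose M hM' using hM
  let eM : ∀ i, (DCoh.tildeD R).obj (M i) ≅ (DCoh.restrictD j).obj (K i) := fun i => (hM' i).some
  -- the restricted cofan is a coproduct
  haveI : PreservesColimitsOfSize.{u, u} (DCoh.restrictD j) :=
    (resRpushAdj j).leftAdjoint_preservesColimits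
  have hcj : IsColimit (Cofan.mk ((DCoh.restrictD j).obj E)
      (fun i => (DCoh.restrictD j).map (u i))) := isColimit_cofan_map (DCoh.restrictD j) u hc
  -- a coproduct of the `M i` in `D(R)`
  haveI : HasColimitsOfShape (Discrete ι) (Dual.D R) :=
    Groth.Agent.Lib.Helper18.DCoprodU.hasColimitsOfShape_discrete
  haveI : HasCoproduct M := inferInstance
  let cf : Cofan (fam M) := Cofan.mk (∐ M) (fun i : ULift.{u + 1} ι => Sigma.ι M i.down)
  have hcf : IsColimit cf := isColimitUlift _ (coproductIsCoproduct M)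
  haveI : PreservesColimitsOfSize.{u, u} (DCoh.tildeD R) :=
    (adjD R).leftAdjoint_preservesColimits
  have hct : IsColimit (Cofan.mk ((DCoh.tildeD R).obj (∐ M))
      (fun i => (DCoh.tildeD R).map (Sigma.ι M i))) :=
    isColimit_cofan_map (DCoh.tildeD R) (Sigma.ι M) (coproductIsCoproduct M)
  -- comparison
  let θ : (DCoh.tildeD R).obj (∐ M) ⟶ (DCoh.restrictD j).obj E :=
    Cofan.IsColimit.desc hct (fun i => (eM i).hom ≫ (DCoh.restrictD j).map (u i))
  let θ' : (DCoh.restrictD j).obj E ⟶ (DCoh.tildeD R).obj (∐ M) :=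
    Cofan.IsColimit.desc hcj (fun i => (eM i).inv ≫ (DCoh.tildeD R).map (Sigma.ι M i))
  have hθ : ∀ i : ι, (DCoh.tildeD R).map (Sigma.ι M i) ≫ θ =
      (eM i).hom ≫ (DCoh.restrictD j).map (u i) := fun i =>
    Cofan.IsColimit.fac hct _ i
  have hθ' : ∀ i, (DCoh.restrictD j).map (u i) ≫ θ' =
      (eM i).inv ≫ (DCoh.tildeD R).map (Sigma.ι M i) := fun i =>
    Cofan.IsColimit.fac hcj _ i
  have hθθ' : θ' ≫ θ = 𝟙 _ := by
    apply Cofan.IsColimit.hom_ext hcj
    intro i
    change (DCoh.restrictD j).map (u i) ≫ θ' ≫ θ = (DCoh.restrictD j).map (u i) ≫ 𝟙 _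
    rw [← Category.assoc, hθ', Category.assoc, hθ i, Iso.inv_hom_id_assoc, Category.comp_id]
  intro φ
  obtain ⟨χ, hχ⟩ := (DCoh.tildeD R).map_surjective (eN.inv ≫ φ ≫ θ')
  obtain ⟨F, g, hg⟩ := (isCpt_of_isPerfect N hN).exists_sum M cf hcf χ
  have hφ : φ = eN.hom ≫ (DCoh.tildeD R).map χ ≫ θ := by
    rw [hχ]
    simp only [Category.assoc, Iso.hom_inv_id_assoc, hθθ', Category.comp_id]
  refine ⟨F, fun i => eN.hom ≫ (DCoh.tildeD R).map (g i) ≫ (eM i).hom, ?_⟩
  rw [hφ, hg, Functor.map_sum, Preadditive.sum_comp, Preadditive.comp_sum]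
  apply Finset.sum_congr rfl
  intro i _
  rw [Functor.map_comp, Category.assoc, Category.assoc, Category.assoc]
  congr 2
  exact hθ i

end Chart

/-- the affine base case -/
theorem cptJ_of_isAffineOpen {W : X.Opens} (hW : IsAffineOpen W) (P : DCoh.D X)
    (hP : DCoh.IsPerfect P) {ι : Type u} (K : ι → DCoh.D X) (E : DCoh.D X) (u : ∀ i, K i ⟶ E)
    (hc : IsColimit (Cofan.mk E u)) (hK : ∀ i, DCoh.IsQCohD (K i)) : CptJ W.ι P u := by
  have hP' := PtFibre.isPerfect_restrict hW.fromSpec hP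
  obtain ⟨hfull, hfaith, hess⟩ := tildeD_fullyFaithful_essImage Γ(X, W)
  obtain ⟨N, ⟨eN⟩⟩ := (hess _).1 (isQCohD_of_isPerfect _ hP')
  have hN : DRing.IsPerfect Γ(X, W) N :=
    (PerfAff.isPerfect_tildeD_iff Γ(X, W) N).1 (PerfTri.isPerfect_of_iso eN.symm hP')
  exact cptJ_of_affine hW P u
    (cptJ_of_tildeD Γ(X, W) hW.fromSpec P N hN eN.symm K E u hc hK)

/-- **perfect objects are compact relative to `D_QCoh`** -/
theorem finSum_of_isPerfect [CompactSpace ↥X] [QuasiSeparatedSpace ↥X] (P : DCoh.D X)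
    (hP : DCoh.IsPerfect P) {ι : Type u} (K : ι → DCoh.D X) (E : DCoh.D X) (u : ∀ i, K i ⟶ E)
    (hc : IsColimit (Cofan.mk E u)) (hK : ∀ i, DCoh.IsQCohD (K i)) (ψ : P ⟶ E) :
    FinSum u ψ := by
  obtain ⟨d, hd⟩ := QC.exists_top (X := X)
  have h := cptJ_of_qc P (fun W hW ι K E u hc hK => cptJ_of_isAffineOpen hW P hP K E u hc hK) hd
    K E u hc hK
  haveI : IsIso (⊤ : X.Opens).ι := (Scheme.topIso X).isIso_hom
  haveI := faithful_restrictD_of_isIso (⊤ : X.Opens).ι
  haveI := Corefl.full_restrictD_of_isIso (⊤ : X.Opens).ι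
  exact FinSum.of_map (DCoh.restrictD (⊤ : X.Opens).ι) (h ((DCoh.restrictD (⊤ : X.Opens).ι).map ψ))

end Groth.Agent.Lib.Helper2.Cpt
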