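import Mathlib
import Groth.Prelude.Def_PerfAux

/-!
# Bijectivity of `PerfAux.homSumToHomCoprod` is the finite-sum property (helper2)
-/

set_option autoImplicit false
universe w v u
open CategoryTheory CategoryTheory.Limits

namespace Groth.Agent.Lib.Helper2.Cpt.FinSumBij

variable {D : Type u} [Category.{v} D] [Preadditive D]

lemma homSumToHomCoprod_of (K : D) {ι : Type w} (X : ι → D) [HasCoproduct X] [DecidableEq ι] (k : ι)
    (g : K ⟶ X k) :
    PerfAux.homSumToHomCoprod K X (DirectSum.of (fun i => K ⟶ X i) k g) = g ≫ Sigma.ι X k := by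
  unfold PerfAux.homSumToHomCoprod
  have : (DirectSum.toAddMonoid fun i => Preadditive.rightComp K (Sigma.ι X i))
      (DirectSum.of (fun i => K ⟶ X i) k g) = g ≫ Sigma.ι X k := by
    rw [DirectSum.toAddMonoid_of]
    rfl
  convert this

theorem bijective_iff_forall_finSum (K : D) {ι : Type w} (X : ι → D) [HasCoproduct X] :
    Function.Bijective (PerfAux.homSumToHomCoprod K X) ↔
      ∀ φ : K ⟶ ∐ X, ∃ (F : Finset ι) (g : ∀ i, K ⟶ X i), φ = ∑ i ∈ F, g i ≫ Sigma.ι X i := by
  classical
  let p : ∀ k, ∐ X ⟶ X k := fun k =>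
    Sigma.desc (fun i => if h : i = k then eqToHom (by rw [h]) else 0)
  have hpp : ∀ i, Sigma.ι X i ≫ p i = 𝟙 _ := fun i => by simp [p]
  have hpn : ∀ i k, i ≠ k → Sigma.ι X i ≫ p k = 0 := fun i k h => by simp [p, h]
  have hcomp : ∀ (x : DirectSum ι (fun i => K ⟶ X i)) (k : ι),
      PerfAux.homSumToHomCoprod K X x ≫ p k = x k := by
    intro x k
    induction x using DirectSum.induction_on with
    | zero => simp
    | of i g =>
      rw [homSumToHomCoprod_of, Category.assoc]
      by_cases h : i = k
      · subst h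
        rw [hpp, Category.comp_id, DirectSum.of_eq_same]
      · rw [hpn i k h, comp_zero, DirectSum.of_eq_of_ne _ _ _ (Ne.symm h)]
    | add x y hx hy =>
      rw [map_add, Preadditive.add_comp, hx, hy]
      rfl
  constructor
  · rintro ⟨-, hs⟩ φ
    obtain ⟨x, rfl⟩ := hs φ
    refine ⟨DFinsupp.support x, fun i => x i, ?_⟩
    conv_lhs => rw [← DirectSum.sum_support_of x]
    rw [map_sum]
    apply Finset.sum_congr rfl
    intro i _
    rw [homSumToHomCoprod_of]
  · intro h
    constructor
    · intro x y hxy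
      apply DFinsupp.ext
      intro k
      rw [← hcomp x k, ← hcomp y k, hxy]
    · intro φ
      obtain ⟨F, g, rfl⟩ := h φ
      refine ⟨∑ i ∈ F, DirectSum.of (fun i => K ⟶ X i) i (g i), ?_⟩
      rw [map_sum]
      apply Finset.sum_congr rfl
      intro i _
      rw [homSumToHomCoprod_of]

end Groth.Agent.Lib.Helper2.Cpt.FinSumBij
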