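import Groth.Agent.Lib.Helper2.Cpt.RGZ
import Groth.Agent.Lib.Helper18.CptC
import Groth.Agent.Lib.Helper2.Cpt.FinSumBij
import Groth.Prelude.Def_PerfAux

/-!
# Compact objects of `D_QCoh` on a qcqs scheme are exactly the perfect objects (helper2)
-/

set_option autoImplicit false
set_option linter.style.haveILetI false
set_option backward.isDefEq.respectTransparency false
universe u
open CategoryTheory CategoryTheory.Limits AlgebraicGeometry TopologicalSpace Opposite
  CategoryTheory.Pretriangulated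

attribute [local instance] HasDerivedCategory.standard

namespace Groth.Agent.Lib.Helper2.Cpt

open Groth.Agent.Lib.Helper2 Groth.Agent.Lib.Helper2.Stk Groth.Agent.Lib.Helper2.Aff
  AlgebraicGeometry.Scheme.Modules Groth.Agent.Lib.Helper13 Groth.Agent.Lib.Helper3
  Groth.Agent.Lib.Helper2.Aff.Qcqs Groth.Agent.Lib.Helper13.QCDim
  Groth.Agent.Lib.Helper2.Aff.HomVan Groth.Agent.Lib.Helper2.KillPow
  Groth.Agent.Lib.Helper2.TExactIso Groth.Agent.Lib.Helper18.DR.Cpt
  Groth.Agent.Lib.Helper2.CompactEnv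

attribute [local instance] Groth.Agent.Lib.Helper2.Stk.hasRpush
attribute [local instance] Groth.Agent.Lib.Helper14.preservesFiniteLimits_tilde

/-- reindexing a colimit cofan from `ULift I` to `I` -/
noncomputable def isColimitDownlift {C : Type*} [Category C] {I : Type u} {X : I → C}
    (c : Cofan (fun i : ULift.{u + 1} I => X i.down)) (hc : IsColimit c) :
    IsColimit (Cofan.mk c.pt (fun i : I => c.inj ⟨i⟩) : Cofan X) :=
  Cofan.IsColimit.mk _ (fun s => Cofan.IsColimit.desc hc (fun i => s.inj i.down))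
    (fun s i => Cofan.IsColimit.fac hc _ ⟨i⟩)
    (fun s m hm => Cofan.IsColimit.hom_ext hc _ _ (fun i => by
      rw [Cofan.IsColimit.fac]; exact hm i.down))

variable {X : Scheme.{u}}

/-- perfectness is local -/
theorem isPerfect_of_local (K : DCoh.D X)
    (h : ∀ x : X, ∃ (Y : Scheme.{u}) (j : Y ⟶ X) (_ : IsOpenImmersion j) (y : Y),
      j.base y = x ∧ DCoh.IsPerfect ((DCoh.restrictD j).obj K)) : DCoh.IsPerfect K := by
  apply PerfTri.isPerfect_of_LPD
  intro x
  obtain ⟨Y, j, hj, y, hy, hK⟩ := h x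
  obtain ⟨V', hyV', E, hE, ⟨e⟩⟩ := (PerfTri.isPerfect_iff _).1 hK y
  obtain ⟨c⟩ := PerfTri.nonempty_resD_comp V'.ι j (V'.ι ≫ j) rfl K
  exact ⟨V', V'.ι ≫ j, inferInstance, ⟨y, hyV'⟩, by simpa using hy, E, hE, ⟨c.symm ≪≫ e⟩⟩

/-- perfect ⇒ compact relative to `D_QCoh` -/
theorem isCompactObjRel_of_isPerfect [CompactSpace ↥X] [QuasiSeparatedSpace ↥X] (K : DCoh.D X)
    (hK : DCoh.IsPerfect K) :
    PerfAux.IsCompactObjRel.{u} (fun L : DCoh.D X => DCoh.IsQCohD L) K := by
  intro ι L _ hL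
  rw [FinSumBij.bijective_iff_forall_finSum]
  intro φ
  exact finSum_of_isPerfect K hK L (∐ L) (Sigma.ι L) (coproductIsCoproduct L) hL φ

section Chart

variable (R : CommRingCat.{u}) (j : SpecR R ⟶ X) [IsOpenImmersion j] [QuasiCompact j]

/-- the chart computation: compactness descends to the affine model -/
theorem isCpt_of_isCompactObjRel (K : DCoh.D X)
    (hK : PerfAux.IsCompactObjRel.{u} (fun L : DCoh.D X => DCoh.IsQCohD L) K) (N : Dual.D R)
    (eN : (DCoh.restrictD j).obj K ≅ (DCoh.tildeD R).obj N) : IsCpt N := by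
  classical
  intro I E _ φ
  suffices h : ∃ (F : Finset I) (h : ∀ i, N ⟶ E i),
      φ = ∑ i ∈ F, h i ≫ Sigma.ι (fam E) ⟨i⟩ by
    obtain ⟨F, h, e⟩ := h
    rw [e]
    exact isFin_sum _ _ (fun i _ => isFin_comp_ι (X := fam E) ⟨i⟩ (h i))
  obtain ⟨hfull, hfaith, hess⟩ := tildeD_fullyFaithful_essImage R
  have hcE : IsColimit (Cofan.mk (∐ fam E) (fun i : I => Sigma.ι (fam E) ⟨i⟩) : Cofan E) :=
    isColimitDownlift _ (coproductIsCoproduct (fam E))
  haveI : PreservesColimitsOfSize.{u, u} (DCoh.tildeD R) :=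
    (adjD R).leftAdjoint_preservesColimits
  have hcU := isColimit_cofan_map (DCoh.tildeD R) (fun i : I => Sigma.ι (fam E) ⟨i⟩) hcE
  have hq : ∀ i, DCoh.IsQCohD ((DCoh.tildeD R).obj (E i)) := fun i =>
    (hess _).2 ⟨E i, ⟨Iso.refl _⟩⟩
  have hRq : ∀ i, DCoh.IsQCohD ((DCoh.Rpush j).obj ((DCoh.tildeD R).obj (E i))) := fun i =>
    isQCohD_Rpush j _ (hq i)
  haveI : HasCoproduct (fun i => (DCoh.Rpush j).obj ((DCoh.tildeD R).obj (E i))) :=
    hasCoproduct_D X _
  let σ : (∐ fun i => (DCoh.Rpush j).obj ((DCoh.tildeD R).obj (E i))) ⟶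
      (DCoh.Rpush j).obj ((DCoh.tildeD R).obj (∐ fam E)) :=
    Sigma.desc (fun i => (DCoh.Rpush j).map ((DCoh.tildeD R).map (Sigma.ι (fam E) ⟨i⟩)))
  haveI : IsIso σ :=
    isIso_of_isColimit j _ hq _ hcU _ (coproductIsCoproduct _) σ (fun i => Sigma.ι_desc _ i)
  let θ : (DCoh.restrictD j).obj K ⟶ (DCoh.tildeD R).obj (∐ fam E) :=
    eN.hom ≫ (DCoh.tildeD R).map φ
  let ψ := (resRpushAdj j).homEquiv K _ θ
  obtain ⟨F, g, e⟩ := (FinSumBij.bijective_iff_forall_finSum K _).1 (hK I _ hRq) (ψ ≫ inv σ)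
  have e2 : ψ = ∑ i ∈ F, g i ≫
      (DCoh.Rpush j).map ((DCoh.tildeD R).map (Sigma.ι (fam E) ⟨i⟩)) := by
    have h1 : ψ = (ψ ≫ inv σ) ≫ σ := by rw [Category.assoc, IsIso.inv_hom_id, Category.comp_id]
    rw [h1, e, Preadditive.sum_comp]
    apply Finset.sum_congr rfl
    intro i _
    rw [Category.assoc, Sigma.ι_desc]
  have e3 : θ = ∑ i ∈ F, ((resRpushAdj j).homEquiv K _).symm (g i) ≫
      (DCoh.tildeD R).map (Sigma.ι (fam E) ⟨i⟩) := by
    have h1 := congrArg ((resRpushAdj j).homEquiv K _).symm e2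
    rw [Equiv.symm_apply_apply] at h1
    rw [h1, Adjunction.homEquiv_counit, Functor.map_sum, Preadditive.sum_comp]
    apply Finset.sum_congr rfl
    intro i _
    rw [← Adjunction.homEquiv_counit, Adjunction.homEquiv_naturality_right_symm]
  refine ⟨F, fun i => (DCoh.tildeD R).preimage
    (eN.inv ≫ ((resRpushAdj j).homEquiv K _).symm (g i)), ?_⟩
  apply (DCoh.tildeD R).map_injective
  rw [Functor.map_sum]
  have h4 : (DCoh.tildeD R).map φ = eN.inv ≫ θ := by
    simp only [θ, Iso.inv_hom_id_assoc]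
  rw [h4, e3, Preadditive.comp_sum]
  apply Finset.sum_congr rfl
  intro i _
  rw [Functor.map_comp, Functor.map_preimage, Category.assoc]

end Chart

/-- compact relative to `D_QCoh` ⇒ perfect -/
theorem isPerfect_of_isCompactObjRel [CompactSpace ↥X] [QuasiSeparatedSpace ↥X] (K : DCoh.D X)
    (hKq : DCoh.IsQCohD K)
    (hK : PerfAux.IsCompactObjRel.{u} (fun L : DCoh.D X => DCoh.IsQCohD L) K) :
    DCoh.IsPerfect K := by
  apply isPerfect_of_local
  intro x
  obtain ⟨W, hW, hxW⟩ := QCProps.exists_affine_nbhd x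
  obtain ⟨y, hy⟩ : ∃ y, hW.fromSpec.base y = x := by
    have : x ∈ Set.range hW.fromSpec.base := by rw [hW.range_fromSpec]; exact hxW
    exact this
  refine ⟨_, hW.fromSpec, inferInstance, y, hy, ?_⟩
  obtain ⟨hfull, hfaith, hess⟩ := tildeD_fullyFaithful_essImage Γ(X, W)
  obtain ⟨N, ⟨eN⟩⟩ := (hess _).1 (isQCohD_restrict hW.fromSpec K hKq)
  haveI : QuasiCompact hW.fromSpec := inferInstance
  have hN : IsCpt N := isCpt_of_isCompactObjRel Γ(X, W) hW.fromSpec K hK N eN.symm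
  have hN' : DRing.IsPerfect Γ(X, W) N := isPerfect_of_isCpt N hN
  exact PerfTri.isPerfect_of_iso eN ((PerfAff.isPerfect_tildeD_iff Γ(X, W) N).2 hN')

end Groth.Agent.Lib.Helper2.Cpt
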