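import Groth.Agent.Lib.Helper2.Cpt.CompactPerf
import Groth.Agent.Lib.Helper2.Kos.Orth
import Groth.Agent.Lib.Helper2.Glue.Sch

/-!
# Compact objects of `D_{QCoh,T}` on a qcqs scheme are exactly the perfect objects (helper2)
-/

set_option autoImplicit false
set_option linter.style.haveILetI false
set_option backward.isDefEq.respectTransparency false
universe u
open CategoryTheory CategoryTheory.Limits AlgebraicGeometry TopologicalSpace Opposite
  CategoryTheory.Pretriangulated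

attribute [local instance] HasDerivedCategory.standard

namespace Groth.Agent.Lib.Helper2.Cpt

open Groth.Agent.Lib.Helper2 Groth.Agent.Lib.Helper2.Stk Groth.Agent.Lib.Helper2.Aff
  AlgebraicGeometry.Scheme.Modules Groth.Agent.Lib.Helper13 Groth.Agent.Lib.Helper3
  Groth.Agent.Lib.Helper2.Aff.Qcqs Groth.Agent.Lib.Helper13.QCDim
  Groth.Agent.Lib.Helper2.Aff.HomVan Groth.Agent.Lib.Helper2.KillPow
  Groth.Agent.Lib.Helper2.TExactIso Groth.Agent.Lib.Helper2.Aff.RGammaRecol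
  Groth.Agent.Lib.Helper2.Aff.AffPush

attribute [local instance] Groth.Agent.Lib.Helper2.Stk.hasRpush

variable {X : Scheme.{u}}

theorem isPerfect_of_isCompactObjRel_supp [CompactSpace ↥X] [QuasiSeparatedSpace ↥X] (T : Set X)
    (hT : IsClosed T) (hTc : IsCompact Tᶜ) (K : DCoh.D X) (hK : DCoh.IsQCohD K)
    (hKT : ∀ i : ℤ, CohB1.support (DCoh.HD K i) ⊆ T)
    (hc : PerfAux.IsCompactObjRel.{u} (fun L : DCoh.D X => DCoh.IsQCohD L ∧
      ∀ i : ℤ, CohB1.support (DCoh.HD L i) ⊆ T) K) : DCoh.IsPerfect K := by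
  classical
  let U : X.Opens := ⟨Tᶜ, hT.isOpen_compl⟩
  have hUc : ((U : Set X))ᶜ = T := compl_compl T
  haveI : CompactSpace ↥(U : Scheme.{u}) := isCompact_iff_compactSpace.1 hTc
  haveI : QuasiCompact U.ι := quasiCompact_of_compactSpace U.ι
  haveI : CxOX.HasRgammaZ U.ι := Groth.Agent.Lib.Helper2.Kos.hasRgammaZ U.ι
  have hKU : IsZero ((DCoh.restrictD U.ι).obj K) :=
    (Glue.isZero_restrictD_iff U K).2 (fun i => by rw [hUc]; exact hKT i)
  apply isPerfect_of_isCompactObjRel K hK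
  intro ι L _ hL
  rw [FinSumBij.bijective_iff_forall_finSum]
  intro φ
  haveI : HasCoproduct (fun i => (CxOX.RgammaZ U.ι).obj (L i)) := hasCoproduct_D X _
  let σ : (∐ fun i => (CxOX.RgammaZ U.ι).obj (L i)) ⟶ (CxOX.RgammaZ U.ι).obj (∐ L) :=
    Sigma.desc (fun i => (CxOX.RgammaZ U.ι).map (Sigma.ι L i))
  haveI hσ : IsIso σ := isIso_RgammaZ_sigma U L hL
  obtain ⟨φ', hφ'⟩ := (RGammaRecol.bijective_comp_RgammaZToId U (∐ L) K hKU).2 φ
  have hφ'' : φ' ≫ (CxOX.RgammaZToId U.ι).app (∐ L) = φ := hφ'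
  have hRL : ∀ i, DCoh.IsQCohD ((CxOX.RgammaZ U.ι).obj (L i)) ∧
      ∀ n : ℤ, CohB1.support (DCoh.HD ((CxOX.RgammaZ U.ι).obj (L i)) n) ⊆ T := by
    intro i
    constructor
    · obtain ⟨h, k, hTr⟩ := RGammaRecol.exists_triangle U (L i)
      exact isQCohD_obj₁ _ hTr (hL i)
        (isQCohD_Rpush U.ι _ (isQCohD_restrict U.ι (L i) (hL i)))
    · intro n
      have := (Glue.isZero_restrictD_iff U _).1 (RGammaRecol.isZero_restrictD_RgammaZ U (L i)) n
      rwa [hUc] at this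
  obtain ⟨F, g, e⟩ := (FinSumBij.bijective_iff_forall_finSum K _).1 (hc ι _ hRL) (φ' ≫ inv σ)
  refine ⟨F, fun i => g i ≫ (CxOX.RgammaZToId U.ι).app (L i), ?_⟩
  have h1 : φ' = (φ' ≫ inv σ) ≫ σ := by rw [Category.assoc, IsIso.inv_hom_id, Category.comp_id]
  rw [← hφ'', h1, e, Preadditive.sum_comp, Preadditive.sum_comp]
  apply Finset.sum_congr rfl
  intro i _
  have hn := (CxOX.RgammaZToId U.ι).naturality (Sigma.ι L i)
  simp only [Functor.id_obj, Functor.id_map] at hn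
  rw [Category.assoc, Category.assoc, Category.assoc, Sigma.ι_desc_assoc, hn]

theorem isCompactObjRel_supp_of_isPerfect [CompactSpace ↥X] [QuasiSeparatedSpace ↥X] (T : Set X)
    (K : DCoh.D X) (hK : DCoh.IsPerfect K) :
    PerfAux.IsCompactObjRel.{u} (fun L : DCoh.D X => DCoh.IsQCohD L ∧
      ∀ i : ℤ, CohB1.support (DCoh.HD L i) ⊆ T) K :=
  fun ι L _ hL => isCompactObjRel_of_isPerfect K hK ι L (fun i => (hL i).1)

end Groth.Agent.Lib.Helper2.Cpt
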