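import Groth.Agent.Lib.Helper2.KillPow.Adj
import Groth.Agent.Lib.Helper2.Aff.HomVanBase
import Groth.Agent.Lib.Helper13.FMV
import Groth.Agent.Lib.Helper18.DSchL

/-!
# Perfect objects are compact relative to `D_QCoh`: the Mayer–Vietoris induction (helper2)
-/

set_option autoImplicit false
set_option linter.style.haveILetI false
set_option backward.isDefEq.respectTransparency false
universe u
open CategoryTheory CategoryTheory.Limits AlgebraicGeometry TopologicalSpace Opposite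
  CategoryTheory.Pretriangulated

attribute [local instance] HasDerivedCategory.standard

namespace Groth.Agent.Lib.Helper2.Cpt

section Fin

variable {C : Type*} [Category C] [Preadditive C]

/-- `ψ` is a finite sum of maps through the members of the family `v i : L i ⟶ E` -/
def FinSum {ι : Type*} {L : ι → C} {E : C} (v : ∀ i, L i ⟶ E) {P : C} (ψ : P ⟶ E) : Prop :=
  ∃ (J : Finset ι) (g : ∀ i, P ⟶ L i), ψ = ∑ i ∈ J, g i ≫ v i

variable {ι : Type*} {L : ι → C} {E : C} {v : ∀ i, L i ⟶ E} {P : C}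

lemma FinSum.exists_superset [DecidableEq ι] {ψ : P ⟶ E} (J : Finset ι) (g : ∀ i, P ⟶ L i)
    (h : ψ = ∑ i ∈ J, g i ≫ v i) (J' : Finset ι) (hJ : J ⊆ J') :
    ∃ g' : ∀ i, P ⟶ L i, ψ = ∑ i ∈ J', g' i ≫ v i := by
  refine ⟨fun i => if i ∈ J then g i else 0, ?_⟩
  rw [h]
  rw [← Finset.sum_subset hJ (f := fun i => (if i ∈ J then g i else 0) ≫ v i)]
  · apply Finset.sum_congr rfl
    intro i hi
    rw [if_pos hi]
  · intro i _ hi
    rw [if_neg hi, zero_comp]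

lemma FinSum.zero : FinSum v (0 : P ⟶ E) :=
  ⟨∅, fun _ => 0, by simp⟩

lemma FinSum.of_comp (i : ι) (g : P ⟶ L i) : FinSum v (g ≫ v i) := by
  classical
  refine ⟨{i}, fun k => if h : k = i then g ≫ eqToHom (by rw [h]) else 0, ?_⟩
  simp

lemma FinSum.add {ψ₁ ψ₂ : P ⟶ E} (h₁ : FinSum v ψ₁) (h₂ : FinSum v ψ₂) : FinSum v (ψ₁ + ψ₂) := by
  classical
  obtain ⟨J₁, g₁, e₁⟩ := h₁
  obtain ⟨J₂, g₂, e₂⟩ := h₂
  obtain ⟨g₁', e₁'⟩ := FinSum.exists_superset J₁ g₁ e₁ (J₁ ∪ J₂) Finset.subset_union_left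
  obtain ⟨g₂', e₂'⟩ := FinSum.exists_superset J₂ g₂ e₂ (J₁ ∪ J₂) Finset.subset_union_right
  refine ⟨J₁ ∪ J₂, fun i => g₁' i + g₂' i, ?_⟩
  rw [e₁', e₂', ← Finset.sum_add_distrib]
  apply Finset.sum_congr rfl
  intro i _
  rw [Preadditive.add_comp]

lemma FinSum.neg {ψ : P ⟶ E} (h : FinSum v ψ) : FinSum v (-ψ) := by
  obtain ⟨J, g, e⟩ := h
  refine ⟨J, fun i => -g i, ?_⟩
  rw [e, ← Finset.sum_neg_distrib]
  apply Finset.sum_congr rfl
  intro i _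
  rw [Preadditive.neg_comp]

lemma FinSum.sum {α : Type*} (S : Finset α) (ψ : α → (P ⟶ E)) (h : ∀ a ∈ S, FinSum v (ψ a)) :
    FinSum v (∑ a ∈ S, ψ a) := by
  classical
  induction S using Finset.induction_on with
  | empty => simpa using FinSum.zero
  | insert a S ha ih =>
    rw [Finset.sum_insert ha]
    exact (h a (Finset.mem_insert_self a S)).add
      (ih (fun b hb => h b (Finset.mem_insert_of_mem hb)))

lemma FinSum.comp_left {P' : C} (θ : P' ⟶ P) {ψ : P ⟶ E} (h : FinSum v ψ) : FinSum v (θ ≫ ψ) := by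
  obtain ⟨J, g, e⟩ := h
  refine ⟨J, fun i => θ ≫ g i, ?_⟩
  rw [e, Preadditive.comp_sum]
  apply Finset.sum_congr rfl
  intro i _
  rw [Category.assoc]

/-- change of the family along maps `t i : L i ⟶ L' i` and a map `w : E ⟶ E'` -/
lemma FinSum.transport {L' : ι → C} {E' : C} {v' : ∀ i, L' i ⟶ E'} (t : ∀ i, L i ⟶ L' i)
    (w : E ⟶ E') (hw : ∀ i, v i ≫ w = t i ≫ v' i) {ψ : P ⟶ E} (h : FinSum v ψ) :
    FinSum v' (ψ ≫ w) := by
  obtain ⟨J, g, e⟩ := h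
  refine ⟨J, fun i => g i ≫ t i, ?_⟩
  rw [e, Preadditive.sum_comp]
  apply Finset.sum_congr rfl
  intro i _
  rw [Category.assoc, hw, Category.assoc]

lemma FinSum.map {D : Type*} [Category D] [Preadditive D] (F : C ⥤ D) [F.Additive]
    {ψ : P ⟶ E} (h : FinSum v ψ) : FinSum (fun i => F.map (v i)) (F.map ψ) := by
  obtain ⟨J, g, e⟩ := h
  refine ⟨J, fun i => F.map (g i), ?_⟩
  rw [e, Functor.map_sum]
  apply Finset.sum_congr rfl
  intro i _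
  rw [Functor.map_comp]

/-- orthogonal retractions of the injections of a coproduct -/
lemma exists_retractions {K : ι → C} {u : ∀ i, K i ⟶ E} (hc : IsColimit (Cofan.mk E u)) :
    ∃ p : ∀ k, E ⟶ K k, (∀ i, u i ≫ p i = 𝟙 _) ∧ ∀ i k, i ≠ k → u i ≫ p k = 0 := by
  classical
  refine ⟨fun k => Cofan.IsColimit.desc hc
    (fun i => if h : i = k then eqToHom (by rw [h]) else 0), fun i => ?_, fun i k hik => ?_⟩
  · have := Cofan.IsColimit.fac hc (fun i' => if h : i' = i then eqToHom (by rw [h]) else 0) i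
    simpa using this
  · have := Cofan.IsColimit.fac hc (fun i' => if h : i' = k then eqToHom (by rw [h]) else 0) i
    simpa [hik] using this

/-- a vanishing finite sum through a family with orthogonal retractions has vanishing terms -/
lemma eq_zero_of_sum_eq_zero {K : ι → C} {u : ∀ i, K i ⟶ E} (p : ∀ k, E ⟶ K k)
    (hp₁ : ∀ i, u i ≫ p i = 𝟙 _) (hp₂ : ∀ i k, i ≠ k → u i ≫ p k = 0)
    (J : Finset ι) (m : ∀ i, P ⟶ K i) (h : ∑ i ∈ J, m i ≫ u i = 0) (k : ι) (hk : k ∈ J) :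
    m k = 0 := by
  classical
  have h1 := congrArg (fun x => x ≫ p k) h
  simp only [Preadditive.sum_comp, Category.assoc, zero_comp] at h1
  rw [Finset.sum_eq_single k] at h1
  · rwa [hp₁, Category.comp_id] at h1
  · intro i _ hik
    rw [hp₂ i k hik, comp_zero]
  · intro hk'
    exact absurd hk hk'

end Fin


open Groth.Agent.Lib.Helper2 Groth.Agent.Lib.Helper2.Stk Groth.Agent.Lib.Helper2.Aff
  AlgebraicGeometry.Scheme.Modules Groth.Agent.Lib.Helper13 Groth.Agent.Lib.Helper3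
  Groth.Agent.Lib.Helper2.Aff.Qcqs Groth.Agent.Lib.Helper13.QCDim
  Groth.Agent.Lib.Helper2.Aff.HomVan Groth.Agent.Lib.Helper2.KillPow

attribute [local instance] Groth.Agent.Lib.Helper2.Stk.hasRpush

variable {X : Scheme.{u}}

/-- compactness of `P` over the open `j` relative to the family `u i : K i ⟶ E` -/
def CptJ {U : Scheme.{u}} (j : U ⟶ X) [IsOpenImmersion j] (P : DCoh.D X) {ι : Type u}
    {K : ι → DCoh.D X} {E : DCoh.D X} (u : ∀ i, K i ⟶ E) : Prop :=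
  ∀ φ : (DCoh.restrictD j).obj P ⟶ (DCoh.restrictD j).obj E,
    FinSum (fun i => (DCoh.restrictD j).map (u i)) φ

section Adj

variable {U : Scheme.{u}} (j : U ⟶ X) [IsOpenImmersion j] (P : DCoh.D X) {ι : Type u}
  {K : ι → DCoh.D X} {E : DCoh.D X} (u : ∀ i, K i ⟶ E)

lemma symm_sum (J : Finset ι) (g : ∀ i, P ⟶ (DCoh.Rpush j).obj ((DCoh.restrictD j).obj (K i))) :
    ((resRpushAdj j).homEquiv P ((DCoh.restrictD j).obj E)).symm
      (∑ i ∈ J, g i ≫ (DCoh.Rpush j).map ((DCoh.restrictD j).map (u i))) =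
    ∑ i ∈ J, ((resRpushAdj j).homEquiv P _).symm (g i) ≫ (DCoh.restrictD j).map (u i) := by
  rw [Adjunction.homEquiv_counit, Functor.map_sum, Preadditive.sum_comp]
  apply Finset.sum_congr rfl
  intro i _
  rw [← Adjunction.homEquiv_counit, Adjunction.homEquiv_naturality_right_symm]

lemma cptJ_iff_adj :
    CptJ j P u ↔ ∀ ψ : P ⟶ (DCoh.Rpush j).obj ((DCoh.restrictD j).obj E),
      FinSum (fun i => (DCoh.Rpush j).map ((DCoh.restrictD j).map (u i))) ψ := by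
  constructor
  · intro h ψ
    obtain ⟨J, g, e⟩ := h (((resRpushAdj j).homEquiv P _).symm ψ)
    refine ⟨J, fun i => (resRpushAdj j).homEquiv P _ (g i), ?_⟩
    apply ((resRpushAdj j).homEquiv P _).symm.injective
    rw [symm_sum, e]
    apply Finset.sum_congr rfl
    intro i _
    rw [Equiv.symm_apply_apply]
  · intro h φ
    obtain ⟨J, g, e⟩ := h ((resRpushAdj j).homEquiv P _ φ)
    refine ⟨J, fun i => ((resRpushAdj j).homEquiv P _).symm (g i), ?_⟩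
    have := congrArg ((resRpushAdj j).homEquiv P _).symm e
    rw [Equiv.symm_apply_apply, symm_sum] at this
    exact this

lemma cptJ_iff_adj' (j' : U ⟶ X) (hj : j' = j) :
    CptJ j P u ↔ ∀ ψ : P ⟶ (DCoh.Rpush j').obj ((DCoh.restrictD j).obj E),
      FinSum (fun i => (DCoh.Rpush j').map ((DCoh.restrictD j).map (u i))) ψ := by
  subst hj
  exact cptJ_iff_adj j' P u

end Adj


/-- **Mayer–Vietoris** for relative compactness -/
theorem cptJ_sup (W₁ W₂ : X.Opens) (P : DCoh.D X) {ι : Type u} {K : ι → DCoh.D X} {E : DCoh.D X}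
    (u : ∀ i, K i ⟶ E) (hc : IsColimit (Cofan.mk E u))
    (h₁ : CptJ W₁.ι P u) (h₂ : CptJ W₂.ι P u)
    (h₁₂ : CptJ (W₁ ⊓ W₂).ι P (fun i => (u i)⟦(-1 : ℤ)⟧')) : CptJ (W₁ ⊔ W₂).ι P u := by
  classical
  obtain ⟨p, hp₁, hp₂⟩ := exists_retractions hc
  obtain ⟨a, b, c, hT, hfam⟩ := Groth.Agent.Lib.Helper13.FMV.exists_mv_triangle_family (𝟙 X) W₁ W₂ E K u
  choose a' b' c' hT' ha hb hc' using hfam
  rw [cptJ_iff_adj' _ P u ((W₁ ⊔ W₂).ι ≫ 𝟙 X) (Category.comp_id _)]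
  rw [cptJ_iff_adj' _ P u (W₁.ι ≫ 𝟙 X) (Category.comp_id _)] at h₁
  rw [cptJ_iff_adj' _ P u (W₂.ι ≫ 𝟙 X) (Category.comp_id _)] at h₂
  rw [cptJ_iff_adj' _ P _ ((W₁ ⊓ W₂).ι ≫ 𝟙 X) (Category.comp_id _)] at h₁₂
  intro ψ
  obtain ⟨cs, tri⟩ := exists_isTriangulated_Rpush ((W₁ ⊓ W₂).ι ≫ 𝟙 X)
  let rU : ∀ i, RW (𝟙 X) (W₁ ⊔ W₂) (K i) ⟶ RW (𝟙 X) (W₁ ⊔ W₂) E := fun i =>
    (DCoh.Rpush ((W₁ ⊔ W₂).ι ≫ 𝟙 X)).map ((DCoh.restrictD (W₁ ⊔ W₂).ι).map (u i))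
  let r1 : ∀ i, RW (𝟙 X) W₁ (K i) ⟶ RW (𝟙 X) W₁ E := fun i =>
    (DCoh.Rpush (W₁.ι ≫ 𝟙 X)).map ((DCoh.restrictD W₁.ι).map (u i))
  let r2 : ∀ i, RW (𝟙 X) W₂ (K i) ⟶ RW (𝟙 X) W₂ E := fun i =>
    (DCoh.Rpush (W₂.ι ≫ 𝟙 X)).map ((DCoh.restrictD W₂.ι).map (u i))
  let G : DCoh.D X ⥤ DCoh.D X :=
    DCoh.restrictD (W₁ ⊓ W₂).ι ⋙ DCoh.Rpush ((W₁ ⊓ W₂).ι ≫ 𝟙 X)
  let r12 : ∀ i, G.obj (K i) ⟶ G.obj E := fun i => G.map (u i)
  have hG0 : ∀ (A B : DCoh.D X), G.map (0 : A ⟶ B) = 0 := by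
    intro A B
    change (DCoh.Rpush ((W₁ ⊓ W₂).ι ≫ 𝟙 X)).map
      ((DCoh.restrictD (W₁ ⊓ W₂).ι).map (0 : A ⟶ B)) = 0
    rw [Functor.map_zero, Functor.map_zero]
  obtain ⟨J₁, g₁, e₁⟩ := h₁ (ψ ≫ a ≫ biprod.fst)
  obtain ⟨J₂, g₂, e₂⟩ := h₂ (ψ ≫ a ≫ biprod.snd)
  obtain ⟨g₁', e₁'⟩ := FinSum.exists_superset J₁ g₁ e₁ (J₁ ∪ J₂) Finset.subset_union_left
  obtain ⟨g₂', e₂'⟩ := FinSum.exists_superset J₂ g₂ e₂ (J₁ ∪ J₂) Finset.subset_union_right
  let h : ∀ i, P ⟶ RW (𝟙 X) W₁ (K i) ⊞ RW (𝟙 X) W₂ (K i) := fun i =>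
    biprod.lift (g₁' i) (g₂' i)
  have hψa : ψ ≫ a = ∑ i ∈ J₁ ∪ J₂, h i ≫ biprod.map (r1 i) (r2 i) := by
    apply biprod.hom_ext
    · rw [Category.assoc, e₁', Preadditive.sum_comp]
      apply Finset.sum_congr rfl
      intro i _
      simp [h, r1]
    · rw [Category.assoc, e₂', Preadditive.sum_comp]
      apply Finset.sum_congr rfl
      intro i _
      simp [h, r2]
  have hm : ∀ k ∈ J₁ ∪ J₂, h k ≫ b' k = 0 := by
    intro k hk
    let q : ∀ k, G.obj E ⟶ G.obj (K k) := fun k => G.map (p k)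
    have hq₁ : ∀ i, r12 i ≫ q i = 𝟙 _ := by
      intro i
      change G.map (u i) ≫ G.map (p i) = _
      rw [← Functor.map_comp, hp₁, CategoryTheory.Functor.map_id]
    have hq₂ : ∀ i k, i ≠ k → r12 i ≫ q k = 0 := by
      intro i k hik
      change G.map (u i) ≫ G.map (p k) = _
      rw [← Functor.map_comp, hp₂ i k hik]
      exact hG0 _ _
    have hsum : ∑ i ∈ J₁ ∪ J₂, (h i ≫ b' i) ≫ r12 i = 0 := by
      have h0 : (ψ ≫ a) ≫ b = 0 := by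
        rw [Category.assoc]
        have h00 : a ≫ b = 0 := comp_distTriang_mor_zero₁₂ _ hT
        rw [h00, comp_zero]
      rw [hψa, Preadditive.sum_comp] at h0
      rw [← h0]
      apply Finset.sum_congr rfl
      intro i _
      rw [Category.assoc, Category.assoc]
      congr 1
      exact hb i
    exact eq_zero_of_sum_eq_zero q hq₁ hq₂ (J₁ ∪ J₂) (fun i => h i ≫ b' i) hsum k hk
  have hχ : ∀ i, ∃ χ : P ⟶ RW (𝟙 X) (W₁ ⊔ W₂) (K i), i ∈ J₁ ∪ J₂ → h i = χ ≫ a' i := by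
    intro i
    by_cases hi : i ∈ J₁ ∪ J₂
    · obtain ⟨χ, hχ⟩ := Triangle.coyoneda_exact₂ _ (hT' i) (h i) (hm i hi)
      exact ⟨χ, fun _ => hχ⟩
    · exact ⟨0, fun h' => absurd h' hi⟩
  choose χ hχ using hχ
  have hψ'a : (∑ i ∈ J₁ ∪ J₂, χ i ≫ rU i) ≫ a = ψ ≫ a := by
    rw [hψa, Preadditive.sum_comp]
    apply Finset.sum_congr rfl
    intro i hi
    rw [Category.assoc, ← ha i, ← Category.assoc, ← hχ i hi]
  have hdiff : (ψ - ∑ i ∈ J₁ ∪ J₂, χ i ≫ rU i) ≫ a = 0 := by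
    rw [Preadditive.sub_comp, hψ'a, sub_self]
  obtain ⟨ξ, hξ⟩ := Triangle.coyoneda_exact₂ _ (inv_rot_of_distTriang _ hT) _ hdiff
  have hnat : ∀ i, (r12 i)⟦(-1 : ℤ)⟧' ≫ (G.commShiftIso (-1 : ℤ)).inv.app E =
      (G.commShiftIso (-1 : ℤ)).inv.app (K i) ≫ G.map ((u i)⟦(-1 : ℤ)⟧') := fun i =>
    (G.commShiftIso (-1 : ℤ)).inv.naturality (u i)
  obtain ⟨J', ζ, eζ⟩ := h₁₂ (ξ ≫ (G.commShiftIso (-1 : ℤ)).inv.app E)
  have hξ' : ξ = ∑ i ∈ J', (ζ i ≫ (G.commShiftIso (-1 : ℤ)).hom.app (K i)) ≫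
      (r12 i)⟦(-1 : ℤ)⟧' := by
    rw [← cancel_mono ((G.commShiftIso (-1 : ℤ)).inv.app E), Preadditive.sum_comp]
    refine Eq.trans eζ ?_
    apply Finset.sum_congr rfl
    intro i _
    rw [Category.assoc, Category.assoc, hnat i, Iso.hom_inv_id_app_assoc]
    rfl
  let φt : ∀ i, Triangle.mk (a' i) (b' i) (c' i) ⟶ Triangle.mk a b c := fun i =>
    { hom₁ := rU i
      hom₂ := biprod.map (r1 i) (r2 i)
      hom₃ := r12 i
      comm₁ := ha i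
      comm₂ := hb i
      comm₃ := hc' i }
  have hrot : ∀ i, (Triangle.invRotate (Triangle.mk (a' i) (b' i) (c' i))).mor₁ ≫ rU i =
      (r12 i)⟦(-1 : ℤ)⟧' ≫ (Triangle.invRotate (Triangle.mk a b c)).mor₁ := fun i =>
    ((Pretriangulated.invRotate (DCoh.D X)).map (φt i)).comm₁
  have hsplit : ψ = (∑ i ∈ J₁ ∪ J₂, χ i ≫ rU i) + (ψ - ∑ i ∈ J₁ ∪ J₂, χ i ≫ rU i) := by abel
  rw [hsplit]
  refine FinSum.add ⟨J₁ ∪ J₂, χ, rfl⟩ ?_
  rw [hξ, hξ', Preadditive.sum_comp]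
  apply FinSum.sum
  intro i _
  rw [Category.assoc, ← hrot i, ← Category.assoc]
  exact FinSum.of_comp i _

end Groth.Agent.Lib.Helper2.Cpt
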