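import Groth.Agent.Lib.Helper2.Kos.Orth
import Groth.Agent.Lib.Helper2.Aff.RGammaRecol
import Groth.Agent.Lib.Helper18.CechD
import Groth.Agent.Lib.Helper20.CechKill
import Groth.Agent.Lib.Helper4.LocSmulIso

/-!
# The extended Čech complex represents `RΓ_Z` on an affine scheme (helper2)
-/

set_option autoImplicit false
set_option linter.style.haveILetI false
set_option backward.isDefEq.respectTransparency false
universe u
open CategoryTheory CategoryTheory.Limits CategoryTheory.Pretriangulated DerivedCategory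
  AlgebraicGeometry

attribute [local instance] HasDerivedCategory.standard

namespace Groth.Agent.Lib.Helper2.Cpt.ExtCech

open Groth.Agent.Lib.Helper18.DR Groth.Agent.Lib.Helper2.TExactIso Groth.Agent.Lib.Helper2.Aff
  Groth.Agent.Lib.Helper2.Kos Groth.Agent.Lib.Helper2.Aff.RGammaRecol Groth.Agent.Lib.Helper18.DR.Cech

attribute [local instance] Groth.Agent.Lib.Helper2.Stk.hasRpush

variable {A : Type u} [CommRing A] [PreservesFiniteLimits (tilde.functor (CommRingCat.of A))]


/-- the extended Čech complex vanishes on the punctured open -/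
theorem isZero_restrictD_tildeD_extCech (fs : List A) (M : ModuleCat.{u} A) :
    IsZero ((DCoh.restrictD (LocCoh.puncturedOpen A (Ideal.span {a | a ∈ fs})).ι).obj
      ((DCoh.tildeD (CommRingCat.of A)).obj (DRing.toD (DerCA.extCech M fs)))) := by
  apply ApproxOpen.isZero_restrictD_of_support
  intro i
  rw [coe_puncturedOpen_compl fs]
  apply support_of_ftors_H _ _ (Iso.refl _) i {a | a ∈ fs}
  intro f hf
  refine FTors.of_linearEquiv
    ((DerivedCategory.homologyFunctorFactors _ i).app (DerCA.extCech M fs)).symm.toLinearEquiv ?_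
  intro x
  obtain ⟨n, -, hn⟩ := Groth.Agent.Lib.Helper20.CechKill.exists_pow_forall M fs i x
  exact ⟨n, hn f hf⟩

/-- no maps from shifted Koszul complexes to objects on which `f` acts invertibly -/
lemma hom_shift_koszul_eq_zero (fs : List A) (f : A) (hf : f ∈ fs) (K' : Dual.D A)
    (hK' : ∀ k : ℕ, IsIso ((f ^ k) • 𝟙 K')) (m : ℤ)
    (χ : (Q.obj (Koszul.koszul A fs))⟦m⟧ ⟶ K') : χ = 0 := by
  obtain ⟨k, hk⟩ := exists_pow_smul_id_eq_zero (isKoszul_koszul fs) f hf
  haveI := hK' k
  have h1 : (f ^ k) • 𝟙 ((Q.obj (Koszul.koszul A fs))⟦m⟧) = 0 := by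
    rw [← CategoryTheory.Functor.map_id, ← Functor.map_smul, hk, Functor.map_zero]
  have h2 : χ ≫ ((f ^ k) • 𝟙 K') = 0 := by
    rw [Linear.comp_smul, Category.comp_id, ← Category.id_comp χ, ← Linear.smul_comp, h1,
      zero_comp]
  rw [← cancel_mono ((f ^ k) • 𝟙 K'), h2, zero_comp]

/-- the localised complex is a derived pushforward from the punctured open -/
theorem exists_iso_Rpush_of_loc (fs : List A) (f : A) (hf : f ∈ fs) (K : DRing.Cx A) :
    ∃ M' : DCoh.D (LocCoh.puncturedOpen A (Ideal.span {a | a ∈ fs}) : Scheme.{u}),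
      Nonempty ((DCoh.tildeD (CommRingCat.of A)).obj
        (DRing.toD ((DerCA.locCx (Submonoid.powers f)).obj K)) ≅
        (DCoh.Rpush (LocCoh.puncturedOpen A (Ideal.span {a | a ∈ fs})).ι).obj M') := by
  obtain ⟨hfull, hfaith, hess⟩ := tildeD_fullyFaithful_essImage (CommRingCat.of A)
  let K' := DRing.toD ((DerCA.locCx (Submonoid.powers f)).obj K)
  have hG : DCoh.IsQCohD ((DCoh.tildeD (CommRingCat.of A)).obj K') :=
    (hess _).2 ⟨K', ⟨Iso.refl _⟩⟩
  obtain ⟨M', -, ⟨e⟩⟩ := (orth_iff fs _ hG).2 (by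
    intro m ψ
    let c := ((DCoh.tildeD (CommRingCat.of A)).commShiftIso m).app (Q.obj (Koszul.koszul A fs))
    obtain ⟨χ, hχ⟩ := (DCoh.tildeD (CommRingCat.of A)).map_surjective (c.hom ≫ ψ)
    have h0 : χ = 0 := hom_shift_koszul_eq_zero fs f hf K'
      (fun k => Groth.Agent.Lib.Helper4.LocSmulIso.isIso_smul_id_locCx f k K) m χ
    rw [h0, Functor.map_zero] at hχ
    rw [← cancel_epi c.hom, ← hχ, comp_zero])
  exact ⟨M', ⟨e⟩⟩

section Main

variable (gs : List A) (M : ModuleCat.{u} A)

/-- universality of the augmentation among maps from objects vanishing on the punctured open -/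
theorem bijective_comp_aug (N : DCoh.D (Spec (CommRingCat.of A)))
    (hN : IsZero ((DCoh.restrictD (LocCoh.puncturedOpen A (Ideal.span {a | a ∈ gs})).ι).obj N)) :
    ∀ fs : List A, (∀ f ∈ fs, f ∈ gs) →
      Function.Bijective (fun φ : N ⟶ (DCoh.tildeD (CommRingCat.of A)).obj
          (DRing.toD (DerCA.extCech M fs)) =>
        φ ≫ (DCoh.tildeD (CommRingCat.of A)).map (Q.map (aug M fs))) := by
  haveI : CxOX.HasRgammaZ (LocCoh.puncturedOpen A (Ideal.span {a | a ∈ gs})).ι := hasRgammaZ _
  intro fs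
  induction fs with
  | nil =>
    intro _
    have : (DCoh.tildeD (CommRingCat.of A)).map (Q.map (aug M [])) = 𝟙 _ := by
      change (DCoh.tildeD (CommRingCat.of A)).map (Q.map (𝟙 _)) = 𝟙 _
      rw [CategoryTheory.Functor.map_id, CategoryTheory.Functor.map_id]
    simp only [this, Category.comp_id]
    exact Function.bijective_id
  | cons f fs ih =>
    intro hfs
    have hf : f ∈ gs := hfs f (List.mem_cons_self)
    have ih' := ih (fun g hg => hfs g (List.mem_cons_of_mem _ hg))
    let φ₀ := DerCA.locCxUnit (Submonoid.powers f) (DerCA.extCech M fs)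
    have hT := (DCoh.tildeD (CommRingCat.of A)).map_distinguished _
      (DerivedCategory.mappingCocone_triangle_distinguished φ₀)
    obtain ⟨M', ⟨e⟩⟩ := exists_iso_Rpush_of_loc gs f hf (DerCA.extCech M fs)
    have hb := bijective_comp_of_cone_local _ _ _ hT N
      (fun ψ => by
        have h1 := hom_Rpush_eq_zero _ N hN M' (ψ ≫ e.hom)
        rw [← cancel_mono e.hom, h1, zero_comp])
      (fun ψ => by
        have h1 := hom_shift_Rpush_eq_zero _ N hN M' (-1) (ψ ≫ e.hom⟦(-1 : ℤ)⟧')
        rw [← cancel_mono (e.hom⟦(-1 : ℤ)⟧'), h1, zero_comp])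
    have hcomp : (fun φ : N ⟶ (DCoh.tildeD (CommRingCat.of A)).obj
          (DRing.toD (DerCA.extCech M (f :: fs))) =>
        φ ≫ (DCoh.tildeD (CommRingCat.of A)).map (Q.map (aug M (f :: fs)))) =
        (fun φ => φ ≫ (DCoh.tildeD (CommRingCat.of A)).map (Q.map (aug M fs))) ∘
          (fun φ => φ ≫ (DCoh.tildeD (CommRingCat.of A)).map
            (Q.map (CochainComplex.mappingCocone.fst φ₀))) := by
      funext φ
      simp only [Function.comp_apply, aug_cons, Functor.map_comp, Category.assoc]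
      rfl
    rw [hcomp]
    exact ih'.comp hb

/-- **the extended Čech complex represents `RΓ_Z`** -/
theorem nonempty_iso_RgammaZ
    [CxOX.HasRgammaZ (LocCoh.puncturedOpen A (Ideal.span {a | a ∈ gs})).ι] :
    Nonempty ((DCoh.tildeD (CommRingCat.of A)).obj (DRing.toD (DerCA.extCech M gs)) ≅
      (CxOX.RgammaZ (LocCoh.puncturedOpen A (Ideal.span {a | a ∈ gs})).ι).obj
        ((DCoh.tildeD (CommRingCat.of A)).obj (Dual.inD A M))) := by
  let U := LocCoh.puncturedOpen A (Ideal.span {a | a ∈ gs})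
  let tD := DCoh.tildeD (CommRingCat.of A)
  let i0 : tD.obj (DRing.toD (DerCA.extCech M [])) ≅ tD.obj (Dual.inD A M) :=
    tD.mapIso ((DerivedCategory.singleFunctorIsoCompQ _ 0).app M).symm
  let c : tD.obj (DRing.toD (DerCA.extCech M gs)) ⟶ tD.obj (Dual.inD A M) :=
    tD.map (Q.map (aug M gs)) ≫ i0.hom
  have hC := isZero_restrictD_tildeD_extCech gs M
  have hc : ∀ N : DCoh.D (Spec (CommRingCat.of A)), IsZero ((DCoh.restrictD U.ι).obj N) →
      Function.Bijective (fun φ : N ⟶ tD.obj (DRing.toD (DerCA.extCech M gs)) => φ ≫ c) := by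
    intro N hN
    have h1 := bijective_comp_aug gs M N hN gs (fun f hf => hf)
    have h2 : Function.Bijective (fun φ : N ⟶ tD.obj (DRing.toD (DerCA.extCech M [])) =>
        φ ≫ i0.hom) :=
      ⟨fun a b h => by simpa using h, fun b => ⟨b ≫ i0.inv, by simp⟩⟩
    have : (fun φ : N ⟶ tD.obj (DRing.toD (DerCA.extCech M gs)) => φ ≫ c) =
        (fun φ => φ ≫ i0.hom) ∘ (fun φ => φ ≫ tD.map (Q.map (aug M gs))) := by
      funext φ
      simp only [Function.comp_apply, c, Category.assoc]
    rw [this]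
    exact h2.comp h1
  obtain ⟨α, hα⟩ := (bijective_comp_RgammaZToId U (tD.obj (Dual.inD A M)) _ hC).2 c
  haveI : IsIso α := isIso_of_universal (fun N => IsZero ((DCoh.restrictD U.ι).obj N))
    ((CxOX.RgammaZToId U.ι).app (tD.obj (Dual.inD A M))) c
    (isZero_restrictD_RgammaZ U _) hC
    (fun N hN => bijective_comp_RgammaZToId U _ N hN) hc α hα
  exact ⟨asIso α⟩

end Main

end Groth.Agent.Lib.Helper2.Cpt.ExtCech
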