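import Groth.Agent.Lib.Helper2.Cpt.Base
import Groth.Agent.Lib.Helper2.RHom.GenIso
import Groth.Agent.Lib.Helper2.Aff.QcqsPush
import Groth.Agent.Lib.Helper2.Stk.DerivedTri
import Groth.Agent.Lib.Helper17.LocIsoD
import Groth.Agent.Lib.Helper13.QCohCoprod
import Groth.Agent.Lib.Helper13.KInjDerived
import Groth.Agent.S0921

/-!
# `Rf_*` commutes with direct sums on `D_QCoh` for `f` qcqs (helper2)
-/

set_option autoImplicit false
set_option linter.style.haveILetI false
set_option backward.isDefEq.respectTransparency false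
universe u
open CategoryTheory CategoryTheory.Limits AlgebraicGeometry TopologicalSpace Opposite
  CategoryTheory.Pretriangulated

attribute [local instance] HasDerivedCategory.standard

namespace Groth.Agent.Lib.Helper2.Cpt

open Groth.Agent.Lib.Helper2 Groth.Agent.Lib.Helper2.Stk Groth.Agent.Lib.Helper2.Aff
  AlgebraicGeometry.Scheme.Modules Groth.Agent.Lib.Helper13 Groth.Agent.Lib.Helper3
  Groth.Agent.Lib.Helper2.Aff.Qcqs Groth.Agent.Lib.Helper13.QCDim
  Groth.Agent.Lib.Helper2.KillPow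

attribute [local instance] Groth.Agent.Lib.Helper2.Stk.hasRpush
attribute [local instance] Groth.Agent.Lib.Helper2.Stk.hasLpull

section General

variable {C : Type*} [Category C]

/-- replacing the members of a coproduct by isomorphic ones -/
noncomputable def isColimit_cofan_precomp {ι : Type*} {L L' : ι → C} {E : C} (v : ∀ i, L i ⟶ E)
    (hc : IsColimit (Cofan.mk E v)) (a : ∀ i, L' i ≅ L i) :
    IsColimit (Cofan.mk E (fun i => (a i).hom ≫ v i)) :=
  mkCofanColimit _ (fun s => Cofan.IsColimit.desc hc (fun i => (a i).inv ≫ s.inj i))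
    (fun s i => by
      have h := Cofan.IsColimit.fac hc (fun i => (a i).inv ≫ s.inj i) i
      change v i ≫ _ = _ at h
      change ((a i).hom ≫ v i) ≫ _ = _
      rw [Category.assoc, h, Iso.hom_inv_id_assoc])
    (fun s m hm => Cofan.IsColimit.hom_ext hc _ _ (fun i => by
      have h' := Cofan.IsColimit.fac hc (fun i => (a i).inv ≫ s.inj i) i
      change v i ≫ _ = _ at h'
      have h := hm i
      change ((a i).hom ≫ v i) ≫ m = _ at h
      change v i ≫ m = v i ≫ _
      rw [h', ← h, Category.assoc, Iso.inv_hom_id_assoc]))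

end General

lemma isQCohD_of_iso' {X : Scheme.{u}} {A B : DCoh.D X} (e : A ≅ B) (h : DCoh.IsQCohD A) :
    DCoh.IsQCohD B :=
  fun i => isQCoh_of_iso ((DerivedCategory.homologyFunctor _ i).mapIso e) (h i)

lemma isQCohD_of_isColimit {X : Scheme.{u}} {ι : Type u} (K : ι → DCoh.D X)
    (hK : ∀ i, DCoh.IsQCohD (K i)) {E : DCoh.D X} (u : ∀ i, K i ⟶ E)
    (hc : IsColimit (Cofan.mk E u)) : DCoh.IsQCohD E := by
  haveI : HasCoproduct K := ⟨⟨⟨_, hc⟩⟩⟩
  have e : ∐ K ≅ E := (coproductIsCoproduct K).coconePointUniqueUpToIso hc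
  exact isQCohD_of_iso' e (QCohCoprod.isQCohD_sigma X K hK)

section QcqsBase

variable {X S : Scheme.{u}} (f : X ⟶ S) [DCoh.HasRpush f]

lemma homEquiv_sum [DCoh.HasLpull f] {W : DCoh.D S} {ι : Type u} {K : ι → DCoh.D X}
    {E : DCoh.D X} (u : ∀ i, K i ⟶ E) (J : Finset ι)
    (g : ∀ i, (DCoh.Lpull f).obj W ⟶ K i) :
    (LpullRpushAdj f).homEquiv W E (∑ i ∈ J, g i ≫ u i) =
      ∑ i ∈ J, (LpullRpushAdj f).homEquiv W (K i) (g i) ≫ (DCoh.Rpush f).map (u i) := by
  obtain ⟨cs, tri⟩ := exists_isTriangulated_Rpush f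
  letI := cs
  haveI := tri
  rw [Adjunction.homEquiv_unit, Functor.map_sum, Preadditive.comp_sum]
  apply Finset.sum_congr rfl
  intro i _
  rw [← Adjunction.homEquiv_unit, Adjunction.homEquiv_naturality_right]

/-- **qcqs base**: the comparison map is an isomorphism -/
theorem isIso_of_qcqs [QuasiCompact f] [QuasiSeparated f] [CompactSpace ↥X] [QuasiSeparatedSpace ↥X] [CompactSpace ↥S]
    [QuasiSeparatedSpace ↥S] {ι : Type u} (K : ι → DCoh.D X) (hK : ∀ i, DCoh.IsQCohD (K i))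
    {E : DCoh.D X} (u : ∀ i, K i ⟶ E) (hc : IsColimit (Cofan.mk E u))
    {E' : DCoh.D S} (u' : ∀ i, (DCoh.Rpush f).obj (K i) ⟶ E') (hc' : IsColimit (Cofan.mk E' u'))
    (σ : E' ⟶ (DCoh.Rpush f).obj E) (hσ : ∀ i, u' i ≫ σ = (DCoh.Rpush f).map (u i)) :
    IsIso σ := by
  classical
  have hRK : ∀ i, DCoh.IsQCohD ((DCoh.Rpush f).obj (K i)) := fun i => isQCohD_Rpush f (K i) (hK i)
  have hE : DCoh.IsQCohD E := isQCohD_of_isColimit K hK u hc
  have hE' : DCoh.IsQCohD E' := isQCohD_of_isColimit _ hRK u' hc'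
  obtain ⟨cs, tri⟩ := exists_isTriangulated_Rpush f
  letI := cs
  haveI := tri
  refine RHom.isIso_of_bijective_perfect hE' (isQCohD_Rpush f E hE) σ (fun W hW => ⟨?_, ?_⟩)
  · -- injectivity
    intro ψ₁ ψ₂ h
    change ψ₁ ≫ σ = ψ₂ ≫ σ at h
    have h0 : (ψ₁ - ψ₂) ≫ σ = 0 := by rw [Preadditive.sub_comp, h, sub_self]
    obtain ⟨J, g, e⟩ := finSum_of_isPerfect W hW _ E' u' hc' hRK (ψ₁ - ψ₂)
    obtain ⟨p, hp₁, hp₂⟩ := exists_retractions hc
    have h1 : ∑ i ∈ J, g i ≫ (DCoh.Rpush f).map (u i) = 0 := by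
      rw [← h0, e, Preadditive.sum_comp]
      apply Finset.sum_congr rfl
      intro i _
      rw [Category.assoc, hσ]
    have hg : ∀ k ∈ J, g k = 0 := fun k hk =>
      eq_zero_of_sum_eq_zero (u := fun i => (DCoh.Rpush f).map (u i))
        (fun k => (DCoh.Rpush f).map (p k))
        (fun i => by rw [← Functor.map_comp, hp₁, CategoryTheory.Functor.map_id])
        (fun i k hik => by rw [← Functor.map_comp, hp₂ i k hik, Functor.map_zero]) J g h1 k hk
    have : ψ₁ - ψ₂ = 0 := by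
      rw [e]
      apply Finset.sum_eq_zero
      intro i hi
      rw [hg i hi, zero_comp]
    exact sub_eq_zero.1 this
  · -- surjectivity
    intro θ
    have hP : DCoh.IsPerfect ((DCoh.Lpull f).obj W) := Groth.Agent.S0921.result f W hW
    obtain ⟨J, g, e⟩ := finSum_of_isPerfect _ hP K E u hc hK
      (((LpullRpushAdj f).homEquiv W E).symm θ)
    refine ⟨∑ i ∈ J, (LpullRpushAdj f).homEquiv W (K i) (g i) ≫ u' i, ?_⟩
    change (∑ i ∈ J, (LpullRpushAdj f).homEquiv W (K i) (g i) ≫ u' i) ≫ σ = θ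
    have h2 := congrArg ((LpullRpushAdj f).homEquiv W E) e
    rw [Equiv.apply_symm_apply, homEquiv_sum] at h2
    rw [h2, Preadditive.sum_comp]
    apply Finset.sum_congr rfl
    intro i _
    rw [Category.assoc, hσ]

end QcqsBase

section General2

variable {X S : Scheme.{u}} (f : X ⟶ S) [QuasiCompact f] [QuasiSeparated f] [DCoh.HasRpush f]

/-- **Stacks 08DX-type statement**: `Rf_*` commutes with direct sums on `D_QCoh` -/
theorem isIso_of_isColimit {ι : Type u} (K : ι → DCoh.D X) (hK : ∀ i, DCoh.IsQCohD (K i))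
    {E : DCoh.D X} (u : ∀ i, K i ⟶ E) (hc : IsColimit (Cofan.mk E u))
    {E' : DCoh.D S} (u' : ∀ i, (DCoh.Rpush f).obj (K i) ⟶ E') (hc' : IsColimit (Cofan.mk E' u'))
    (σ : E' ⟶ (DCoh.Rpush f).obj E) (hσ : ∀ i, u' i ≫ σ = (DCoh.Rpush f).map (u i)) :
    IsIso σ := by
  apply Groth.Agent.Lib.Helper17.LocIsoD.isIso_of_forall_isIso_restrictD
  intro V hV
  haveI : IsAffine (V : Scheme.{u}) := hV
  obtain ⟨e⟩ := KInjDerived.nonempty_rpush_restrict_iso f V
  haveI : CompactSpace ↥(f ⁻¹ᵁ V : Scheme.{u}) :=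
    QuasiCompact.compactSpace_of_compactSpace (f ∣_ V)
  haveI : QuasiSeparatedSpace ↥(f ⁻¹ᵁ V : Scheme.{u}) :=
    quasiSeparatedSpace_of_quasiSeparated (f ∣_ V)
  haveI : PreservesColimitsOfSize.{u, u} (DCoh.restrictD (f ⁻¹ᵁ V).ι) :=
    (resRpushAdj (f ⁻¹ᵁ V).ι).leftAdjoint_preservesColimits
  haveI : PreservesColimitsOfSize.{u, u} (DCoh.restrictD V.ι) :=
    (resRpushAdj V.ι).leftAdjoint_preservesColimits
  have hcU := isColimit_cofan_map (DCoh.restrictD (f ⁻¹ᵁ V).ι) u hc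
  have hcV := isColimit_cofan_precomp _ (isColimit_cofan_map (DCoh.restrictD V.ι) u' hc')
    (fun i => (e.app (K i)).symm)
  have h := isIso_of_qcqs (f ∣_ V) (fun i => (DCoh.restrictD (f ⁻¹ᵁ V).ι).obj (K i))
    (fun i => isQCohD_restrict (f ⁻¹ᵁ V).ι (K i) (hK i)) _ hcU _ hcV
    ((DCoh.restrictD V.ι).map σ ≫ e.hom.app E) (fun i => by
      have hn := e.hom.naturality (u i)
      dsimp at hn ⊢
      rw [Category.assoc, ← Functor.map_comp_assoc, hσ, hn, Iso.inv_hom_id_app_assoc])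
  exact IsIso.of_isIso_comp_right _ (e.hom.app E)

end General2

end Groth.Agent.Lib.Helper2.Cpt
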