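import Groth.Agent.Lib.Helper2.Cpt.Push
import Groth.Agent.Lib.Helper2.Aff.RGammaRecol
import Groth.Agent.Lib.Helper4.SigmaTri

/-!
# `RΓ_Z` commutes with direct sums on `D_QCoh` (helper2)
-/

set_option autoImplicit false
set_option linter.style.haveILetI false
set_option backward.isDefEq.respectTransparency false
universe u
open CategoryTheory CategoryTheory.Limits AlgebraicGeometry TopologicalSpace Opposite
  CategoryTheory.Pretriangulated

attribute [local instance] HasDerivedCategory.standard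

namespace Groth.Agent.Lib.Helper2.Cpt

open Groth.Agent.Lib.Helper2 Groth.Agent.Lib.Helper2.Stk Groth.Agent.Lib.Helper2.Aff
  AlgebraicGeometry.Scheme.Modules Groth.Agent.Lib.Helper13 Groth.Agent.Lib.Helper3
  Groth.Agent.Lib.Helper2.Aff.Qcqs Groth.Agent.Lib.Helper13.QCDim
  Groth.Agent.Lib.Helper2.KillPow Groth.Agent.Lib.Helper2.Aff.RGammaRecol

attribute [local instance] Groth.Agent.Lib.Helper2.Stk.hasRpush

lemma hasCoproduct_D (X : Scheme.{u}) {ι : Type u} (K : ι → DCoh.D X) : HasCoproduct K := by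
  haveI : IsGrothendieckAbelian.{u} X.Modules :=
    Groth.Agent.Lib.Helper13.ModGrothendieck.isGrothendieckAbelian X.ringCatSheaf
  haveI : HasColimitsOfShape (Discrete ι) (DCoh.D X) :=
    Groth.Agent.Lib.Helper18.DCoprodU.hasColimitsOfShape_discrete
  infer_instance

variable {X : Scheme.{u}} (T : X.Opens) [QuasiCompact T.ι] [CxOX.HasRgammaZ T.ι]

theorem isIso_RgammaZ_sigma {ι : Type u} (E : ι → DCoh.D X) (hE : ∀ i, DCoh.IsQCohD (E i))
    [HasCoproduct E] [HasCoproduct (fun i => (CxOX.RgammaZ T.ι).obj (E i))] :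
    IsIso (Sigma.desc (fun i => (CxOX.RgammaZ T.ι).map (Sigma.ι E i))) := by
  classical
  have htri := fun i => RGammaRecol.exists_triangle T (E i)
  choose h k hT using htri
  let εs : ∀ i, (CxOX.RgammaZ T.ι).obj (E i) ⟶ E i := fun i => (CxOX.RgammaZToId T.ι).app (E i)
  haveI : HasCoproduct (fun i => (DCoh.Rpush T.ι).obj ((DCoh.restrictD T.ι).obj (E i))) :=
    hasCoproduct_D X _
  obtain ⟨H, hH⟩ := Groth.Agent.Lib.Helper4.SigmaTri.exists_sigma_triangle (fun i => (CxOX.RgammaZ T.ι).obj (E i)) E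
    (fun i => (DCoh.Rpush T.ι).obj ((DCoh.restrictD T.ι).obj (E i)))
    εs h k hT
  haveI : HasCoproduct (fun i => (DCoh.restrictD T.ι).obj (E i)) := hasCoproduct_D _ _
  let σj := Sigma.desc (fun i => (DCoh.Rpush T.ι).map
    (Sigma.ι (fun i => (DCoh.restrictD T.ι).obj (E i)) i))
  haveI hσj : IsIso σj :=
    isIso_of_isColimit T.ι _ (fun i => isQCohD_restrict T.ι (E i) (hE i)) _
      (coproductIsCoproduct _) _ (coproductIsCoproduct _) _ (fun i => Sigma.ι_desc _ i)
  obtain ⟨cs, tri⟩ := exists_isTriangulated_Rpush T.ι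
  -- universality of `∐ ε_i`
  have huniv : ∀ N : DCoh.D X, IsZero ((DCoh.restrictD T.ι).obj N) →
      Function.Bijective (fun φ : N ⟶ ∐ (fun i => (CxOX.RgammaZ T.ι).obj (E i)) =>
        φ ≫ Limits.Sigma.map εs) := by
    intro N hN
    refine RGammaRecol.bijective_comp_of_cone_local _ _ H hH N ?_ ?_
    · intro φ
      have := RGammaRecol.hom_Rpush_eq_zero T N hN _ (φ ≫ σj)
      rw [← cancel_mono σj, this, zero_comp]
    · intro φ
      have := RGammaRecol.hom_shift_Rpush_eq_zero T N hN _ (-1) (φ ≫ σj⟦(-1 : ℤ)⟧')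
      rw [← cancel_mono (σj⟦(-1 : ℤ)⟧'), this, zero_comp]
  have hM : IsZero ((DCoh.restrictD T.ι).obj (∐ fun i => (CxOX.RgammaZ T.ι).obj (E i))) := by
    haveI : PreservesColimitsOfSize.{u, u} (DCoh.restrictD T.ι) :=
      (resRpushAdj T.ι).leftAdjoint_preservesColimits
    have hc := isColimit_cofan_map (DCoh.restrictD T.ι)
      (Sigma.ι (fun i => (CxOX.RgammaZ T.ι).obj (E i))) (coproductIsCoproduct _)
    rw [IsZero.iff_id_eq_zero]
    apply Cofan.IsColimit.hom_ext hc
    intro i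
    exact (RGammaRecol.isZero_restrictD_RgammaZ T (E i)).eq_of_src _ _
  refine RGammaRecol.isIso_of_universal (fun N => IsZero ((DCoh.restrictD T.ι).obj N))
    ((CxOX.RgammaZToId T.ι).app (∐ E))
    (Limits.Sigma.map εs)
    (RGammaRecol.isZero_restrictD_RgammaZ T _) hM
    (fun N hN => RGammaRecol.bijective_comp_RgammaZToId T _ N hN) huniv _ ?_
  apply Sigma.hom_ext
  intro i
  rw [Sigma.ι_desc_assoc, Sigma.ι_map]
  exact (CxOX.RgammaZToId T.ι).naturality (Sigma.ι E i)

end Groth.Agent.Lib.Helper2.Cpt
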