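import Mathlib
import Groth.Prelude.Def_CxOX

/-!
# `RΓ_Z` only depends on the range of the open immersion (helper2)
-/

set_option autoImplicit false
universe u
open CategoryTheory CategoryTheory.Limits AlgebraicGeometry

attribute [local instance] HasDerivedCategory.standard

namespace Groth.Agent.Lib.Helper2.Cpt.RgammaZRange

open AlgebraicGeometry.Scheme.Modules

variable {U X : Scheme.{u}} (j : U ⟶ X) [IsOpenImmersion j]

lemma image_preimage_eq (V : X.Opens) :
    j ''ᵁ (j ⁻¹ᵁ V) = j.opensRange.ι ''ᵁ (j.opensRange.ι ⁻¹ᵁ V) := by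
  rw [Scheme.Hom.image_preimage_eq_opensRange_inf, Scheme.Hom.image_preimage_eq_opensRange_inf,
    Scheme.Opens.opensRange_ι]

/-- the two units differ by an isomorphism on sections -/
lemma unit_app_app_eq (F : X.Modules) (V : X.Opens) :
    ((restrictAdjunction j.opensRange.ι).unit.app F).app V =
      ((restrictAdjunction j).unit.app F).app V ≫
        F.presheaf.map (eqToHom (image_preimage_eq j V).symm).op := by
  rw [restrictAdjunction_unit_app_app, restrictAdjunction_unit_app_app]
  change F.presheaf.map _ = F.presheaf.map _ ≫ F.presheaf.map _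
  rw [← Functor.map_comp]
  rfl

lemma unit_app_app_eq' (F : X.Modules) (V : X.Opens) :
    ((restrictAdjunction j).unit.app F).app V =
      ((restrictAdjunction j.opensRange.ι).unit.app F).app V ≫
        F.presheaf.map (eqToHom (image_preimage_eq j V)).op := by
  rw [restrictAdjunction_unit_app_app, restrictAdjunction_unit_app_app]
  change F.presheaf.map _ = F.presheaf.map _ ≫ F.presheaf.map _
  rw [← Functor.map_comp]
  rfl

lemma kernel_ι_comp_unit (F : X.Modules) :
    kernel.ι ((restrictAdjunction j).unit.app F) ≫
      (restrictAdjunction j.opensRange.ι).unit.app F = 0 := by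
  ext V : 1
  rw [Hom.comp_app, unit_app_app_eq]
  have h := congrArg (fun φ => Hom.app φ V) (kernel.condition ((restrictAdjunction j).unit.app F))
  simp only [Hom.comp_app] at h
  erw [reassoc_of% h]
  exact zero_comp

lemma kernel_ι_comp_unit' (F : X.Modules) :
    kernel.ι ((restrictAdjunction j.opensRange.ι).unit.app F) ≫
      (restrictAdjunction j).unit.app F = 0 := by
  ext V : 1
  rw [Hom.comp_app, unit_app_app_eq']
  have h := congrArg (fun φ => Hom.app φ V)
    (kernel.condition ((restrictAdjunction j.opensRange.ι).unit.app F))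
  simp only [Hom.comp_app] at h
  erw [reassoc_of% h]
  exact zero_comp

/-- `Γ_Z` only depends on the range of the open immersion -/
noncomputable def gammaZIso : DCoh.gammaZ j ≅ DCoh.gammaZ j.opensRange.ι :=
  NatIso.ofComponents (fun F =>
    { hom := kernel.lift _ (kernel.ι ((restrictAdjunction j).unit.app F)) (kernel_ι_comp_unit j F)
      inv := kernel.lift _ (kernel.ι ((restrictAdjunction j.opensRange.ι).unit.app F))
        (kernel_ι_comp_unit' j F)
      hom_inv_id := by
        apply equalizer.hom_ext
        simp [DCoh.gammaZ]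
      inv_hom_id := by
        apply equalizer.hom_ext
        simp [DCoh.gammaZ] })
    (fun φ => by
      apply equalizer.hom_ext
      simp [DCoh.gammaZ])

local notation "cc" => ComplexShape.up ℤ

/-- the induced isomorphism of functors `K(O_X) ⥤ D(O_X)` -/
noncomputable def gammaZKhIso : CxOX.gammaZKh j ≅ CxOX.gammaZKh j.opensRange.ι :=
  Functor.isoWhiskerRight
    { hom := NatTrans.mapHomotopyCategory (gammaZIso j).hom cc
      inv := NatTrans.mapHomotopyCategory (gammaZIso j).inv cc
      hom_inv_id := by
        rw [← NatTrans.mapHomotopyCategory_comp, Iso.hom_inv_id, NatTrans.mapHomotopyCategory_id]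
      inv_hom_id := by
        rw [← NatTrans.mapHomotopyCategory_comp, Iso.inv_hom_id, NatTrans.mapHomotopyCategory_id] }
    DerivedCategory.Qh

theorem hasRgammaZ_opensRange [CxOX.HasRgammaZ j] : CxOX.HasRgammaZ j.opensRange.ι :=
  (Functor.hasRightDerivedFunctor_iff_of_iso (gammaZKhIso j)
    (HomotopyCategory.quasiIso X.Modules cc)).1 inferInstance

theorem nonempty_RgammaZ_iso [CxOX.HasRgammaZ j] [CxOX.HasRgammaZ j.opensRange.ι] :
    Nonempty (CxOX.RgammaZ j ≅ CxOX.RgammaZ j.opensRange.ι) :=
  ⟨Functor.rightDerivedNatIso _ _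
    ((CxOX.gammaZKh j).totalRightDerivedUnit DerivedCategory.Qh
      (HomotopyCategory.quasiIso X.Modules cc))
    ((CxOX.gammaZKh j.opensRange.ι).totalRightDerivedUnit DerivedCategory.Qh
      (HomotopyCategory.quasiIso X.Modules cc))
    (HomotopyCategory.quasiIso X.Modules cc) (gammaZKhIso j)⟩

end Groth.Agent.Lib.Helper2.Cpt.RgammaZRange
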