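import Groth.Agent.Lib.Helper2.Cpt.RGZ
import Groth.Agent.Lib.Helper2.Cpt.RgammaZRange

/-!
# `RΓ_Z` commutes with direct sums on `D_QCoh`: general open immersion (helper2)
-/

set_option autoImplicit false
set_option linter.style.haveILetI false
universe u
open CategoryTheory CategoryTheory.Limits AlgebraicGeometry

attribute [local instance] HasDerivedCategory.standard

namespace Groth.Agent.Lib.Helper2.Cpt

lemma isIso_sigma_desc_of_natIso {C D : Type*} [Category C] [Category D] {F G : C ⥤ D}
    (κ : F ≅ G) {ι : Type*} (E : ι → C) [HasCoproduct E] [HasCoproduct (fun i => F.obj (E i))]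
    [HasCoproduct (fun i => G.obj (E i))]
    (h : IsIso (Sigma.desc (fun i => G.map (Sigma.ι E i)))) :
    IsIso (Sigma.desc (fun i => F.map (Sigma.ι E i))) := by
  have e : Sigma.desc (fun i => F.map (Sigma.ι E i)) =
      Limits.Sigma.map (fun i => κ.hom.app (E i)) ≫ Sigma.desc (fun i => G.map (Sigma.ι E i)) ≫
        κ.inv.app (∐ E) := by
    apply Sigma.hom_ext
    intro i
    simp
  haveI : IsIso (Limits.Sigma.map (fun i => κ.hom.app (E i))) :=
    ⟨⟨Limits.Sigma.map (fun i => κ.inv.app (E i)), by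
      rw [Sigma.map_comp_map]
      simp [Sigma.map_id], by
      rw [Sigma.map_comp_map]
      simp [Sigma.map_id]⟩⟩
  rw [e]
  infer_instance

theorem isIso_RgammaZ_sigma' {U X : Scheme.{u}} (j : U ⟶ X) [IsOpenImmersion j] [QuasiCompact j]
    [CxOX.HasRgammaZ j] {ι : Type u} (E : ι → DCoh.D X) (hE : ∀ i, DCoh.IsQCohD (E i))
    [HasCoproduct E] [HasCoproduct (fun i => (CxOX.RgammaZ j).obj (E i))] :
    IsIso (Sigma.desc (fun i => (CxOX.RgammaZ j).map (Sigma.ι E i))) := by
  haveI : QuasiCompact j.opensRange.ι := by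
    have : j.opensRange.ι = j.isoOpensRange.inv ≫ j := by
      rw [Iso.eq_inv_comp]
      exact j.isoOpensRange_hom_ι
    rw [this]
    infer_instance
  haveI := RgammaZRange.hasRgammaZ_opensRange j
  obtain ⟨κ⟩ := RgammaZRange.nonempty_RgammaZ_iso j
  haveI : HasCoproduct (fun i => (CxOX.RgammaZ j.opensRange.ι).obj (E i)) := hasCoproduct_D X _
  exact isIso_sigma_desc_of_natIso κ E (isIso_RgammaZ_sigma j.opensRange E hE)

end Groth.Agent.Lib.Helper2.Cpt
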